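import Cfsg.Agent.H7.BG.S7
import Cfsg.Agent.H3.BG9

/-! B&G sections 1-9 and appendices A, B (umbrella file). -/
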